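import Groth.Agent.FlatModel.Open
import Mathlib

/-!
Finite presentation of flat modules from finitely many local rings of the base.
-/

set_option autoImplicit false
set_option linter.style.haveILetI false

noncomputable section

universe u

open TensorProduct

namespace Groth.Agent.Calg46.LocFP

/-- An element of a flat module killed outside each of the separating primes vanishes. -/
theorem eq_zero_of_flat {R F : Type u} [CommRing R] [AddCommGroup F] [Module R F] [Module.Flat R F]
    (s : Finset (PrimeSpectrum R))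
    (hs : Function.Injective fun r : R => fun p : s => algebraMap R (Localization.AtPrime p.1.asIdeal) r)
    (x : F) (hx : ∀ p ∈ s, ∃ c ∉ p.asIdeal, c • x = 0) : x = 0 := by
  classical
  let Q : s → Type u := fun p => Localization.AtPrime p.1.asIdeal
  let ι : R →ₗ[R] (∀ p, Q p) := LinearMap.pi fun p => Algebra.linearMap R (Q p)
  have hι : Function.Injective ι := hs
  have h1 : Function.Injective (ι.lTensor F) := Module.Flat.lTensor_preserves_injective_linearMap ι hι
  refine (TensorProduct.rid R F).symm.injective (h1 ?_)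
  rw [map_zero, map_zero, TensorProduct.rid_symm_apply, LinearMap.lTensor_tmul]
  apply (TensorProduct.piRight R R F Q).injective
  rw [map_zero]
  funext p
  show x ⊗ₜ[R] algebraMap R (Q p) 1 = 0
  obtain ⟨c, hc, hcx⟩ := hx p.1 p.2
  obtain ⟨d, hd⟩ := (IsLocalization.map_units (Q p) (⟨c, hc⟩ : p.1.asIdeal.primeCompl)).exists_left_inv
  rw [map_one, ← hd, mul_comm, ← Algebra.smul_def, ← TensorProduct.smul_tmul, hcx, TensorProduct.zero_tmul]

variable {R S X M : Type u} [CommRing R] [CommRing S] [Algebra R S] [Algebra.FinitePresentation R S]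
  [AddCommGroup X] [Module S X] [Module.FinitePresentation S X] [Module R X] [IsScalarTower R S X]
  [AddCommGroup M] [Module S M] [Module R M] [IsScalarTower R S M] [Module.Flat R M]

set_option maxHeartbeats 800000 in
theorem fg_ker (π : X →ₗ[S] M) (hπ : Function.Surjective π) (s : Finset (PrimeSpectrum R))
    (hs : Function.Injective fun r : R => fun p : s => algebraMap R (Localization.AtPrime p.1.asIdeal) r)
    (hloc : ∀ (p : Ideal R) [p.IsPrime], ∃ K' : Submodule S X, K'.FG ∧ K' ≤ LinearMap.ker π ∧
      ∀ x ∈ LinearMap.ker π, ∃ c ∉ p, c • x ∈ K') :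
    (LinearMap.ker π).FG := by
  classical
  choose Kp hKfg hKle hKeq using hloc
  let K₀ : Submodule S X := ⨆ p : s, Kp p.1.asIdeal
  have hK₀ : K₀.FG := Submodule.fg_iSup _ fun p => hKfg _
  let Kq : PrimeSpectrum S → Submodule S X := fun q => K₀ ⊔ Kp (q.asIdeal.comap (algebraMap R S))
  have hKqfg : ∀ q, (Kq q).FG := fun q => hK₀.sup (hKfg _)
  have hKqle : ∀ q, Kq q ≤ LinearMap.ker π := fun q => sup_le (iSup_le fun p => hKle _) (hKle _)
  have key : ∀ q : PrimeSpectrum S, ∃ g ∉ q.asIdeal, ∀ x ∈ LinearMap.ker π, ∃ k : ℕ, g ^ k • x ∈ Kq q := by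
    intro q
    let p := q.asIdeal.comap (algebraMap R S)
    let M' := X ⧸ Kq q
    haveI : Module.FinitePresentation S M' := Module.finitePresentation_of_surjective (Kq q).mkQ
      (Submodule.mkQ_surjective _) (by rw [Submodule.ker_mkQ]; exact hKqfg q)
    let θ : M' →ₗ[S] M := (Kq q).liftQ π (hKqle q)
    let W := q.asIdeal.primeCompl
    let ℓ : M' →ₗ[S] LocalizedModule W M := (LocalizedModule.mkLinearMap W M) ∘ₗ θ
    haveI : IsLocalizedModule W ℓ := by
      refine ⟨fun c => IsLocalizedModule.map_units (LocalizedModule.mkLinearMap W M) c, fun y => ?_, fun {a b} hab => ?_⟩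
      · obtain ⟨⟨m, c⟩, hm⟩ := IsLocalizedModule.surj W (LocalizedModule.mkLinearMap W M) y
        obtain ⟨x, rfl⟩ := hπ m
        exact ⟨⟨Submodule.Quotient.mk x, c⟩, hm⟩
      · obtain ⟨c, hc⟩ := IsLocalizedModule.exists_of_eq (S := W) (f := LocalizedModule.mkLinearMap W M) hab
        obtain ⟨a, rfl⟩ := Submodule.Quotient.mk_surjective _ a
        obtain ⟨b, rfl⟩ := Submodule.Quotient.mk_surjective _ b
        have hker : (c : S) • (a - b) ∈ LinearMap.ker π := by
          rw [LinearMap.mem_ker, map_smul, map_sub, smul_sub, sub_eq_zero]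
          exact hc
        obtain ⟨d, hd, hdx⟩ := hKeq p _ hker
        refine ⟨⟨algebraMap R S d * c, W.mul_mem hd c.2⟩, ?_⟩
        show (algebraMap R S d * (c : S)) • (Submodule.Quotient.mk a : M') = (algebraMap R S d * (c : S)) • Submodule.Quotient.mk b
        rw [← Submodule.Quotient.mk_smul, ← Submodule.Quotient.mk_smul, Submodule.Quotient.eq, ← smul_sub, mul_smul,
          algebraMap_smul]
        exact Submodule.mem_sup_right hdx
    have hflatq : Module.Flat R (LocalizedModule W M') := by
      have hMq : Module.Flat R (LocalizedModule W M) :=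
        (FlatModel.flat_localized_iff W (LocalizedModule.mkLinearMap W M)).2 fun J y hy =>
          ⟨1, one_mem _, by
            rw [one_smul]
            exact Module.Flat.lTensor_preserves_injective_linearMap J.subtype J.subtype_injective (hy.trans (map_zero _).symm)⟩
      rw [FlatModel.flat_localized_iff W (LocalizedModule.mkLinearMap W M'), ← FlatModel.flat_localized_iff W ℓ]
      exact hMq
    obtain ⟨g, hg, hgW⟩ := FlatModel.exists_flat_nhd (R := R) M' q.asIdeal hflatq
    refine ⟨g, hg, fun x hx => ?_⟩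
    haveI := hgW (Submonoid.powers g) (Submonoid.mem_powers g)
    have h0 : LocalizedModule.mkLinearMap (Submonoid.powers g) M' (Submodule.Quotient.mk x) = 0 :=
      eq_zero_of_flat s hs _ fun pr hpr => by
        obtain ⟨c, hc, hcx⟩ := hKeq pr.asIdeal x hx
        refine ⟨c, hc, ?_⟩
        rw [← LinearMap.map_smul_of_tower, ← Submodule.Quotient.mk_smul,
          (Submodule.Quotient.mk_eq_zero _).2 (Submodule.mem_sup_left (Submodule.mem_iSup_of_mem ⟨pr, hpr⟩ hcx)),
          map_zero]
    obtain ⟨⟨_, k, rfl⟩, hk⟩ :=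
      (IsLocalizedModule.eq_zero_iff (Submonoid.powers g) (LocalizedModule.mkLinearMap (Submonoid.powers g) M')).1 h0
    refine ⟨k, ?_⟩
    rw [← Submodule.Quotient.mk_eq_zero, Submodule.Quotient.mk_smul]
    exact hk
  choose g hg hgK using key
  have htop : Ideal.span (Set.range g) = ⊤ := by
    by_contra h
    obtain ⟨m, hm, hle⟩ := Ideal.exists_le_maximal _ h
    exact hg ⟨m, hm.isPrime⟩ (hle (Ideal.subset_span ⟨_, rfl⟩))
  obtain ⟨T, hTsub, hT⟩ := Submodule.mem_span_finite_of_mem_span ((Ideal.eq_top_iff_one _).1 htop)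
  choose qi hqi using fun t : T => hTsub t.2
  have hKeq' : LinearMap.ker π = ⨆ t : T, Kq (qi t) := by
    refine le_antisymm (fun x hx => ?_) (iSup_le fun t => hKqle _)
    let I : Ideal S :=
      { carrier := {a | a • x ∈ ⨆ t : T, Kq (qi t)}
        zero_mem' := by simp
        add_mem' := fun {a b} ha hb => by rw [Set.mem_ofPred_eq, add_smul]; exact add_mem ha hb
        smul_mem' := fun c a ha => by
          rw [Set.mem_ofPred_eq, smul_eq_mul, mul_smul]
          exact Submodule.smul_mem _ c ha }
    have hle : Ideal.span (T : Set S) ≤ I.radical := by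
      rw [Ideal.span_le]
      intro a ha
      obtain ⟨k, hk⟩ := hgK (qi ⟨a, ha⟩) x hx
      refine ⟨k, ?_⟩
      show a ^ k • x ∈ ⨆ t : T, Kq (qi t)
      rw [show g (qi ⟨a, ha⟩) = a from hqi ⟨a, ha⟩] at hk
      exact Submodule.mem_iSup_of_mem (⟨a, ha⟩ : T) hk
    have h1 : (1 : S) ∈ I.radical := hle hT
    obtain ⟨k, hk⟩ := h1
    have hk' : (1 : S) ^ k • x ∈ ⨆ t : T, Kq (qi t) := hk
    rwa [one_pow, one_smul] at hk'
  rw [hKeq']
  exact Submodule.fg_iSup _ fun t => hKqfg _

end Groth.Agent.Calg46.LocFP
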