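import Groth.Agent.Calg46.LocFP.Core
import Mathlib

/-!
Local finite presentation gives finitely generated relations locally on the base.
-/

set_option autoImplicit false
set_option linter.style.haveILetI false

noncomputable section

universe u

namespace Groth.Agent.Calg46.LocFP

variable {R : Type u} [CommRing R]

set_option maxHeartbeats 800000 in
theorem exists_fg_of_module {S M : Type u} [CommRing S] [Algebra R S] [AddCommGroup M] [Module S M] {b : ℕ}
    (π : (Fin b → S) →ₗ[S] M) (hπ : Function.Surjective π) (p : Ideal R) [p.IsPrime]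
    (hfp : Module.FinitePresentation (Localization (Algebra.algebraMapSubmonoid S p.primeCompl))
        (LocalizedModule (Algebra.algebraMapSubmonoid S p.primeCompl) M)) :
    ∃ K' : Submodule S (Fin b → S), K'.FG ∧ K' ≤ LinearMap.ker π ∧
      ∀ x ∈ LinearMap.ker π, ∃ c ∉ p, c • x ∈ K' := by
  classical
  let W := Algebra.algebraMapSubmonoid S p.primeCompl
  let A := Localization W
  haveI : IsLocalizedModule W (Algebra.linearMap S A) := (isLocalizedModule_iff_isLocalization' W A).2 inferInstance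
  let ℓb : (Fin b → S) →ₗ[S] (Fin b → A) :=
    LinearMap.pi fun i => (Algebra.linearMap S A) ∘ₗ LinearMap.proj i
  haveI : IsLocalizedModule W ℓb := inferInstance
  let ℓM : M →ₗ[S] LocalizedModule W M := LocalizedModule.mkLinearMap W M
  let πA : (Fin b → A) →ₗ[A] LocalizedModule W M := (IsLocalizedModule.map W ℓb ℓM π).extendScalarsOfIsLocalization W A
  have hπA : Function.Surjective πA := IsLocalizedModule.map_surjective W ℓb ℓM π hπ
  haveI := hfp
  obtain ⟨G, hG⟩ := Module.FinitePresentation.fg_ker πA hπA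
  have hker : LinearMap.ker πA = (LinearMap.ker π).localized' A W ℓb :=
    (LinearMap.localized'_ker_eq_ker_localizedMap A W ℓb ℓM π).symm
  have hG' : ∀ y : G, ∃ x ∈ LinearMap.ker π, ∃ c : W, IsLocalizedModule.mk' ℓb x c = (y : Fin b → A) := fun y => by
    have hy : (y : Fin b → A) ∈ (LinearMap.ker π).localized' A W ℓb := hker.le (hG.le (Submodule.subset_span y.2))
    obtain ⟨m, hm, c, hc⟩ := hy
    exact ⟨m, hm, c, hc⟩
  choose x hx c hxc using hG'
  refine ⟨Submodule.span S (Set.range x), Submodule.fg_span (Set.finite_range x),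
    Submodule.span_le.2 (Set.range_subset_iff.2 hx), fun z hz => ?_⟩
  have hle : (LinearMap.ker π).localized' A W ℓb ≤ (Submodule.span S (Set.range x)).localized' A W ℓb := by
    rw [← hker, ← hG, Submodule.span_le]
    intro y hy
    exact ⟨x ⟨y, hy⟩, Submodule.subset_span ⟨_, rfl⟩, c ⟨y, hy⟩, hxc ⟨y, hy⟩⟩
  obtain ⟨m, hm, t, hmt⟩ := hle ⟨z, hz, 1, by rw [IsLocalizedModule.mk'_one]⟩
  rw [← IsLocalizedModule.mk'_one W ℓb z, IsLocalizedModule.mk'_eq_mk'_iff] at hmt
  obtain ⟨d, hd⟩ := hmt
  obtain ⟨c₀, hc₀, hc₀'⟩ := W.mul_mem d.2 t.2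
  refine ⟨c₀, hc₀, ?_⟩
  have h1 : ((d : S) * (t : S)) • z ∈ Submodule.span S (Set.range x) := by
    simp only [Submonoid.smul_def, one_smul] at hd
    rw [mul_smul, hd]
    exact Submodule.smul_mem _ _ hm
  rw [← hc₀', algebraMap_smul] at h1
  exact h1

set_option maxHeartbeats 800000 in
theorem exists_fg_of_algebra {S : Type u} [CommRing S] [Algebra R S] {n : ℕ}
    (π : MvPolynomial (Fin n) R →ₐ[R] S) (hπ : Function.Surjective π) (p : Ideal R) [p.IsPrime]
    (hfp : Algebra.FinitePresentation (Localization.AtPrime p) (Localization (Algebra.algebraMapSubmonoid S p.primeCompl))) :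
    ∃ K' : Ideal (MvPolynomial (Fin n) R), K'.FG ∧ K' ≤ RingHom.ker π ∧
      ∀ x ∈ RingHom.ker π, ∃ c ∉ p, c • x ∈ K' := by
  classical
  let P := MvPolynomial (Fin n) R
  let Rp := Localization.AtPrime p
  let Pp := MvPolynomial (Fin n) Rp
  let Sp := Localization (Algebra.algebraMapSubmonoid S p.primeCompl)
  letI : Algebra P Pp := MvPolynomial.algebraMvPolynomial
  haveI : IsLocalization (p.primeCompl.map (MvPolynomial.C (σ := Fin n))) Pp :=
    MvPolynomial.isLocalization p.primeCompl Rp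
  let πp : Pp →ₐ[Rp] Sp := MvPolynomial.aeval fun i => algebraMap S Sp (π (MvPolynomial.X i))
  have hcomp : ∀ a, πp (algebraMap P Pp a) = algebraMap S Sp (π a) := fun a => by
    induction a using MvPolynomial.induction_on with
    | C r =>
      rw [MvPolynomial.algebraMap_def, MvPolynomial.map_C, ← MvPolynomial.algebraMap_eq, πp.commutes,
        ← MvPolynomial.algebraMap_eq, π.commutes, ← IsScalarTower.algebraMap_apply R Rp Sp,
        ← IsScalarTower.algebraMap_apply R S Sp]
    | add a b ha hb => simp only [map_add, ha, hb]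
    | mul_X a i ha =>
      rw [map_mul, map_mul, map_mul, map_mul, ha, MvPolynomial.algebraMap_def, MvPolynomial.map_X]
      exact congrArg _ (MvPolynomial.aeval_X _ i)
  have hπp : Function.Surjective πp := fun z => by
    obtain ⟨⟨a, ⟨_, c, hc, rfl⟩⟩, hz⟩ := IsLocalization.surj (Algebra.algebraMapSubmonoid S p.primeCompl) z
    obtain ⟨a, rfl⟩ := hπ a
    obtain ⟨d, hd⟩ := (IsLocalization.map_units Rp (⟨c, hc⟩ : p.primeCompl)).exists_left_inv
    refine ⟨algebraMap Rp Pp d * algebraMap P Pp a, ?_⟩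
    rw [map_mul, hcomp, ← hz, ← IsScalarTower.algebraMap_apply R S Sp, IsScalarTower.algebraMap_apply R Rp Sp c,
      πp.commutes, mul_left_comm, ← map_mul, hd, map_one, mul_one]
  haveI := hfp
  obtain ⟨G, hG⟩ := Algebra.FinitePresentation.ker_fG_of_surjective πp hπp
  have hG' : ∀ y : G, ∃ a ∈ RingHom.ker π, ∃ v : Pp, v * algebraMap P Pp a = (y : Pp) := fun y => by
    obtain ⟨⟨a, ⟨_, c, hc, rfl⟩⟩, hy⟩ := IsLocalization.surj (p.primeCompl.map (MvPolynomial.C (σ := Fin n))) (y : Pp)
    have h0 : algebraMap S Sp (π a) = 0 := by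
      rw [← hcomp, ← hy, map_mul, (RingHom.mem_ker.1 (hG.le (Submodule.subset_span y.2)) : πp (y : Pp) = 0), zero_mul]
    obtain ⟨⟨_, e, he, rfl⟩, hes⟩ := (IsLocalization.map_eq_zero_iff (Algebra.algebraMapSubmonoid S p.primeCompl) Sp (π a)).1 h0
    refine ⟨MvPolynomial.C e * a, ?_, ?_⟩
    · rw [RingHom.mem_ker, map_mul, ← MvPolynomial.algebraMap_eq, π.commutes]
      exact hes
    · obtain ⟨u, hu⟩ := (IsLocalization.map_units Pp (⟨MvPolynomial.C (e * c), ⟨e * c, p.primeCompl.mul_mem he hc, rfl⟩⟩ :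
        p.primeCompl.map (MvPolynomial.C (σ := Fin n)))).exists_left_inv
      refine ⟨u, ?_⟩
      simp only [map_mul] at hu ⊢
      linear_combination (u * algebraMap P Pp (MvPolynomial.C e)) * (-hy) + (y : Pp) * hu
  choose a ha v hv using hG'
  refine ⟨Ideal.span (Set.range a), Submodule.fg_span (Set.finite_range a),
    Ideal.span_le.2 (Set.range_subset_iff.2 ha), fun z hz => ?_⟩
  have hmem : algebraMap P Pp z ∈ (Ideal.span (Set.range a)).map (algebraMap P Pp) := by
    have h1 : algebraMap P Pp z ∈ RingHom.ker πp.toRingHom := by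
      show πp (algebraMap P Pp z) = 0
      rw [hcomp, RingHom.mem_ker.1 hz, map_zero]
    refine (show RingHom.ker πp.toRingHom ≤ _ from ?_) h1
    rw [← hG, Submodule.span_le]
    intro y hy
    rw [show y = v ⟨y, hy⟩ * algebraMap P Pp (a ⟨y, hy⟩) from (hv ⟨y, hy⟩).symm]
    exact Ideal.mul_mem_left _ _ (Ideal.mem_map_of_mem _ (Ideal.subset_span ⟨_, rfl⟩))
  obtain ⟨_, ⟨c, hc, rfl⟩, hcz⟩ :=
    (IsLocalization.algebraMap_mem_map_algebraMap_iff (p.primeCompl.map (MvPolynomial.C (σ := Fin n))) Pp _ _).1 hmem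
  exact ⟨c, hc, by rw [Algebra.smul_def, MvPolynomial.algebraMap_eq]; exact hcz⟩

end Groth.Agent.Calg46.LocFP
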